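import Cfsg.Agent.RD.A
import Cfsg.Agent.H25.Real
import Cfsg.Agent.H25.ClassSize
import Cfsg.Agent.S3863

/-! Disconnected prime graph on real class sizes: the structure of `O^{2'}(G)`. -/

set_option autoImplicit false

namespace Cfsg.Agent.RT

open Subgroup

universe u

variable {G : Type u} [Group G] [Finite G]

theorem syl_le (C : Subgroup G) (h : ¬ 2 ∣ C.index) : ∃ S : Sylow 2 G, (S : Subgroup G) ≤ C := by
  obtain ⟨R⟩ : Nonempty (Sylow 2 C) := inferInstance
  have h1 : ¬ 2 ∣ ((R : Subgroup C).map C.subtype).index := by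
    rw [index_map_subtype]
    intro hd
    rcases (Nat.Prime.dvd_mul Nat.prime_two).1 hd with a | a
    · exact R.not_dvd_index a
    · exact h a
  exact ⟨(R.isPGroup'.map _).toSylow h1, map_subtype_le _⟩

omit [Finite G] in
theorem real_of_sq {x : G} (h : x * x = 1) : IsConj x x⁻¹ := by
  rw [inv_eq_of_mul_eq_one_right h]

/-- some real class has even size -/
theorem even_ex
    (yu : ∀ (E : Subgroup G) [E.Normal], (∀ a ∈ E, ∀ b ∈ E, a * b = b * a) → IsPGroup 2 E →
      Odd (centralizer (E : Set G)).index → ∀ {a b : G}, a ∈ E → b ∈ E →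
      (centralizer ({a} : Set G)).index.Coprime (centralizer ({b} : Set G)).index →
      centralizer ({a * b} : Set G) ≤ centralizer ({a} : Set G))
    {π₁ π₂ : Set ℕ} {a b : G} {p q : ℕ} (hp : p ∈ π₁) (hq : q ∈ π₂) (ra : IsConj a a⁻¹)
    (rb : IsConj b b⁻¹) (pa : p ∣ (centralizer ({a} : Set G)).index)
    (qb : q ∣ (centralizer ({b} : Set G)).index)
    (cov : ∀ r : ℕ, r.Prime → ∀ x : G, IsConj x x⁻¹ → r ∣ (centralizer ({x} : Set G)).index →
      r ∈ π₁ ∨ r ∈ π₂)
    (ne : ∀ r ∈ π₁, ∀ s ∈ π₂, ∀ x : G, IsConj x x⁻¹ → r ∣ (centralizer ({x} : Set G)).index →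
      ¬ s ∣ (centralizer ({x} : Set G)).index) :
    ∃ x : G, IsConj x x⁻¹ ∧ 2 ∣ (centralizer ({x} : Set G)).index := by
  by_contra hc
  push Not at hc
  obtain ⟨P⟩ : Nonempty (Sylow 2 G) := inferInstance
  have sq : ∀ x : G, IsConj x x⁻¹ → x * x = 1 := fun x hx =>
    H25.sq_eq_one_of_real_of_odd_index hx (hc x hx)
  haveI hP : (P : Subgroup G).Normal := H25.sylow_two_normal_of_no_real P fun x h1 ho hx => by
    have h2 : orderOf x ∣ 2 := orderOf_dvd_of_pow_eq_one (by rw [pow_two]; exact sq x hx)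
    rcases (Nat.dvd_prime Nat.prime_two).1 h2 with e | e
    · exact h1 (orderOf_eq_one_iff.1 e)
    · rw [e] at ho; exact absurd ho (by decide)
  have uq : ∀ S : Sylow 2 G, S = P := fun S => by
    obtain ⟨g, rfl⟩ := MulAction.exists_smul_eq G P S
    exact Sylow.smul_eq_of_normal
  have mz : ∀ x : G, IsConj x x⁻¹ → x ∈ RD.Zc P := fun x hx => by
    obtain ⟨S, hS⟩ := syl_le _ (hc x hx)
    rw [uq S] at hS
    have h1 : IsPGroup 2 (zpowers x) := IsPGroup.of_card_dvd_pow (n := 1) (by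
      rw [Nat.card_zpowers, pow_one]
      exact orderOf_dvd_of_pow_eq_one (by rw [pow_two]; exact sq x hx))
    obtain ⟨R, hR⟩ := h1.exists_le_sylow
    rw [uq R] at hR
    exact ⟨hR (mem_zpowers x), sq x hx, fun s hs => mem_centralizer_singleton_iff.1 (hS hs)⟩
  haveI : (RD.Zc P).Normal := ⟨fun n hn g => by
    have : g * n * g⁻¹ ∈ RD.Zc (g • P) := RD.mem_Zc_sm.2 (by simpa [mul_assoc] using hn)
    rwa [uq (g • P)] at this⟩
  have ab : ∀ x ∈ RD.Zc P, ∀ y ∈ RD.Zc P, x * y = y * x := fun x hx y hy => hy.2.2 x hx.1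
  have pg : IsPGroup 2 (RD.Zc P) := P.isPGroup'.to_le (fun x hx => hx.1)
  have od : Odd (centralizer (RD.Zc P : Set G)).index := by
    have : (P : Subgroup G) ≤ centralizer (RD.Zc P : Set G) := fun s hs =>
      mem_centralizer_iff.2 fun x hx => (hx.2.2 s hs).symm
    exact Nat.not_even_iff_odd.1 fun e =>
      P.not_dvd_index (e.two_dvd.trans (index_dvd_of_le this))
  have co : (centralizer ({a} : Set G)).index.Coprime (centralizer ({b} : Set G)).index := by
    refine Nat.Coprime.symm (Nat.coprime_of_dvd fun r hr h1 h2 => ?_)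
    rcases cov r hr a ra h2 with e | e
    · exact ne r e q hq b rb h1 qb
    · exact ne p hp r e a ra pa h2
  have h1 := index_dvd_of_le (yu _ ab pg od (mz a ra) (mz b rb) co)
  have h2 := index_dvd_of_le (yu _ ab pg od (mz b rb) (mz a ra) co.symm)
  rw [ab b (mz b rb) a (mz a ra)] at h2
  exact ne p hp q hq _ (real_of_sq (mul_mem (mz a ra) (mz b rb)).2.1) (pa.trans h1) (qb.trans h2)

/-- the subgroup generated by the `2`-elements -/
abbrev KK (G : Type u) [Group G] : Subgroup G := closure {g : G | ∃ k : ℕ, orderOf g = 2 ^ k}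

omit [Finite G] in
theorem kk_normal : (KK G).Normal := by
  have : KK G = normalClosure {g : G | ∃ k : ℕ, orderOf g = 2 ^ k} := by
    refine le_antisymm closure_le_normalClosure (closure_mono fun x hx => ?_)
    obtain ⟨y, ⟨k, hk⟩, hy⟩ := Group.mem_conjugatesOfSet_iff.1 hx
    obtain ⟨c, rfl⟩ := isConj_iff.1 hy
    exact ⟨k, by rw [← hk]; exact (MulAut.conj c).orderOf_eq y⟩
  rw [this]; infer_instance

theorem syl_kk (S : Sylow 2 G) : (S : Subgroup G) ≤ KK G := fun x hx => by
  obtain ⟨k, hk⟩ := IsPGroup.iff_orderOf.1 S.isPGroup' ⟨x, hx⟩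
  exact subset_closure ⟨k, by rw [← hk, orderOf_mk]⟩

/-- the main case -/
theorem core
    (pl : ∀ {p : ℕ}, p.Prime → p ≠ 2 → ∀ S : Sylow 2 G,
      ¬ p ∣ (normalizer ((S : Subgroup G) : Set G)).index → ¬ p ∣ Nat.card (KK G))
    {π₁ π₂ : Set ℕ} {i : G} {q : ℕ} (h2 : 2 ∈ π₁) (hq : q ∈ π₂) (ri : IsConj i i⁻¹)
    (qi : q ∣ (centralizer ({i} : Set G)).index)
    (cov : ∀ r : ℕ, r.Prime → ∀ x : G, IsConj x x⁻¹ → r ∣ (centralizer ({x} : Set G)).index →
      r ∈ π₁ ∨ r ∈ π₂)
    (ne : ∀ r ∈ π₁, ∀ s ∈ π₂, ∀ x : G, IsConj x x⁻¹ → r ∣ (centralizer ({x} : Set G)).index →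
      ¬ s ∣ (centralizer ({x} : Set G)).index)
    (nn : ¬ ∀ P : Sylow 2 G, (P : Subgroup G).Normal) :
    (∃ y : KK G, IsConj y y⁻¹ ∧ 2 ∣ (centralizer ({y} : Set (KK G))).index) ∧
    (∃ y : KK G, IsConj y y⁻¹ ∧ ∃ r : ℕ, r.Prime ∧ r ≠ 2 ∧
      r ∣ (centralizer ({y} : Set (KK G))).index) ∧
    ∀ y : KK G, IsConj y y⁻¹ → Odd (centralizer ({y} : Set (KK G))).index ∨
      ∃ j : ℕ, (centralizer ({y} : Set (KK G))).index = 2 ^ j := by
  haveI := (kk_normal : (KK G).Normal)
  have oi : ¬ 2 ∣ (centralizer ({i} : Set G)).index := fun e => ne 2 h2 q hq i ri e qi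
  have ii : i * i = 1 := H25.sq_eq_one_of_real_of_odd_index ri oi
  have ro : ∀ {H : Type u} [Group H] [Finite H] (y : H), y ≠ 1 → Odd (orderOf y) → IsConj y y⁻¹ →
      2 ∣ (centralizer ({y} : Set H)).index := fun y h1 ho hy => by
    by_contra hc
    have h3 : orderOf y ∣ 2 := orderOf_dvd_of_pow_eq_one (by
      rw [pow_two]; exact H25.sq_eq_one_of_real_of_odd_index hy hc)
    rcases (Nat.dvd_prime Nat.prime_two).1 h3 with e | e
    · exact h1 (orderOf_eq_one_iff.1 e)
    · rw [e] at ho; exact absurd ho (by decide)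
  obtain ⟨S, hS⟩ := syl_le _ oi
  have hn : ((S.subtype hS : Sylow 2 (centralizer ({i} : Set G))) :
      Subgroup (centralizer ({i} : Set G))).Normal :=
    H25.sylow_two_normal_of_no_real _ fun y h1 ho hy => by
      obtain ⟨t, ht⟩ := isConj_iff.1 hy
      have ht' : (t : G) * y * (t : G)⁻¹ = (y : G)⁻¹ := congrArg Subtype.val ht
      have ti : (t : G) * i = i * t := mem_centralizer_singleton_iff.1 t.2
      have yi : Commute i (y : G) := (mem_centralizer_singleton_iff.1 y.2).symm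
      have ho' : Odd (orderOf (y : G)) := by rwa [orderOf_coe]
      have e2 := ro (y : G) (fun e => h1 (Subtype.ext e)) ho' (isConj_iff.2 ⟨t, ht'⟩)
      have r : IsConj (i * y) (i * y)⁻¹ := isConj_iff.2 ⟨t, by
        calc (t : G) * (i * y) * (t : G)⁻¹ = i * ((t : G) * y * (t : G)⁻¹) := by
              rw [← mul_assoc, ti]; group
          _ = _ := by
              rw [ht', mul_inv_rev, inv_eq_of_mul_eq_one_right ii, yi.inv_right.eq]⟩
      have pw : (i * y) ^ orderOf (y : G) = i := by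
        obtain ⟨k, hk⟩ := ho'
        rw [yi.mul_pow, pow_orderOf_eq_one, mul_one, hk, pow_succ, pow_mul, pow_two, ii, one_pow,
          one_mul]
      have c1 : centralizer ({i * y} : Set G) ≤ centralizer ({i} : Set G) := fun g hg => by
        have : Commute g (i * y) := mem_centralizer_singleton_iff.1 hg
        rw [mem_centralizer_singleton_iff, ← pw]
        exact (this.pow_right _).eq
      have c2 : centralizer ({i * y} : Set G) ≤ centralizer ({(y : G)} : Set G) := fun g hg => by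
        have a1 : Commute g (i * y) := mem_centralizer_singleton_iff.1 hg
        have a2 : Commute g i := mem_centralizer_singleton_iff.1 (c1 hg)
        have := a2.inv_right.mul_right a1
        rw [inv_mul_cancel_left] at this
        exact mem_centralizer_singleton_iff.2 this.eq
      exact ne 2 h2 q hq _ r (e2.trans (index_dvd_of_le c2)) (qi.trans (index_dvd_of_le c1))
  have CN : centralizer ({i} : Set G) ≤ normalizer ((S : Subgroup G) : Set G) :=
    (normal_subgroupOf_iff_le_normalizer hS).1 hn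
  have Sn : ¬ (S : Subgroup G).Normal := fun hS' => nn fun P => by
    obtain ⟨g, rfl⟩ := MulAction.exists_smul_eq G S P
    rwa [Sylow.smul_eq_of_normal]
  have oK : Odd (KK G).index := Nat.not_even_iff_odd.1 fun e =>
    S.not_dvd_index (e.two_dvd.trans (index_dvd_of_le (syl_kk S)))
  refine ⟨?_, ?_, fun y hy => ?_⟩
  · by_contra hc
    refine Sn (H25.sylow_two_normal_of_no_real S fun y h1 ho hy => hc ?_)
    obtain ⟨hyK, hy'⟩ := (S3863.result y hy).2.2 (KK G) oK
    exact ⟨_, hy', ro _ (fun e => h1 (congrArg Subtype.val e)) (by rwa [orderOf_mk]) hy'⟩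
  · obtain ⟨hiK, hi'⟩ := (S3863.result i ri).2.2 (KK G) oK
    have d := H25.index_centralizer_normal_dvd (KK G) ⟨i, hiK⟩
    have h1 : (centralizer ({(⟨i, hiK⟩ : KK G)} : Set (KK G))).index ≠ 1 := fun e => by
      rw [index_eq_one, H25.centralizer_subgroupOf, subgroupOf_eq_top] at e
      refine Sn ⟨fun n hn g => ?_⟩
      have h3 : g * n * g⁻¹ ∈ ((g • S : Sylow 2 G) : Subgroup G) :=
        RD.mem_sm.2 (by simpa [mul_assoc] using hn)
      have h4 := (g • S).isPGroup'.inf_normalizer_sylow S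
      have h5 : g * n * g⁻¹ ∈ ((g • S : Sylow 2 G) : Subgroup G) ⊓
          normalizer ((S : Subgroup G) : Set G) := ⟨h3, CN (e (syl_kk _ h3))⟩
      have h6 : g * n * g⁻¹ ∈ ((g • S : Sylow 2 G) : Subgroup G) ⊓ (S : Subgroup G) := h4 ▸ h5
      exact h6.2
    obtain ⟨r, hr, hd⟩ := Nat.exists_prime_and_dvd h1
    exact ⟨_, hi', r, hr, fun e => oi (e ▸ hd.trans d), hd⟩
  · rcases Nat.even_or_odd (centralizer ({y} : Set (KK G))).index with e | e
    · right
      have d := H25.index_centralizer_normal_dvd (KK G) y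
      have ry : IsConj (y : G) (y : G)⁻¹ := by
        obtain ⟨t, ht⟩ := isConj_iff.1 hy
        exact isConj_iff.2 ⟨t, congrArg Subtype.val ht⟩
      refine ⟨_, Nat.eq_prime_pow_of_unique_prime_dvd index_ne_zero_of_finite fun {r} hr hd => ?_⟩
      by_contra r2
      rcases cov r hr y ry (hd.trans d) with a | a
      · refine pl hr r2 S (fun b => ?_) (hd.trans (index_dvd_card _))
        exact ne r a q hq i ri (b.trans (index_dvd_of_le CN)) qi
      · exact ne 2 h2 r a y ry (e.two_dvd.trans d) (hd.trans d)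
    · exact Or.inl e

end Cfsg.Agent.RT
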